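import Cfsg.Agent.H630.ExcF
import Cfsg.Agent.H165.Tri

/-!
# Transitivity of `Cond {p, q}` in cross characteristic from the tables of helper630 (helper347, for S4335)

`crossTri_of` : the same hypotheses as `Setup.crossRow_of`.
-/

set_option autoImplicit false
set_option linter.unusedSectionVars false

namespace Cfsg.Agent.H347.Tri

open CoxeterSystem Cfsg Cfsg.Lie Cfsg.Lie.ChevalleyDatum
open Cfsg.Agent.ChevalleyStructure Cfsg.Agent.ChevalleyStructure.Elts Cfsg.Agent.ChevalleyStructure.CoxeterGeom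
  Cfsg.Agent.ChevalleyStructure.CoxeterGeomTypes Cfsg.Agent.ChevalleyStructure.NPerm
open Cfsg.Agent.Tits.Roots Cfsg.Agent.Tits.Core Cfsg.Agent.Nodes Cfsg.Agent.Nodes.Reps Cfsg.Agent.Nodes.BNOf
  Cfsg.Agent.Nodes.RGDChev Cfsg.Agent.Nodes.Bruhat Cfsg.Agent.Nodes.SubComb Cfsg.Agent.Nodes.Coroot
open Cfsg.Agent.KFacts.RgdField Cfsg.Agent.KFacts.RgdChevCoord Cfsg.Agent.BpExc.TorCent Cfsg.Agent.BpExc.TorChev
open Cfsg.Agent.GpExc.Field Cfsg.Agent.BpExc.Tow Cfsg.Agent.BpExc.TowChev Cfsg.Agent.BpExc.Fr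
  Cfsg.Agent.BpExc.LangFr Cfsg.Agent.LangThm Cfsg.Agent.BpExc Cfsg.Agent.H129.TorusChar Cfsg.Agent.H129.TorusMain
open Cfsg.Agent.H630.NH Cfsg.Agent.H130.WeylCk Cfsg.Agent.H130.PolyL Cfsg.Agent.H630.Exc Cfsg.Agent.H165.TriRow

universe u v

section Main

variable {D : ChevalleyDatum} {l : ℕ} {M : CoxeterMatrix (Fin l)} (hp : IsType D l M) {k' : Type u} [Field k']
  {W : Type*} [Group W] (cs : CoxeterSystem M W)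
  {p e : ℕ} [hpF : Fact p.Prime] [CharP k' p] {σ : MulAut ↥(D.group k')}
  {g : (Fin l → ℤ) ≃+ (Fin l → ℤ)} {X : Type v} [Group X] {e0 : X →* ↥(D.group k')} {d : ℕ}
  (S : Setup hp cs p e σ g e0 d)

include S

/-- The facts for all the primes of a set `π` satisfying `Cond`. -/
theorem facts_of [IsAlgClosed k'] [Finite W] [Finite X] (hka : BpExc.TorAll.HAlg p k') {ε Q : ℤ}
    (hε : ε = 1 ∨ ε = -1) (hQ : Q = ε * (p ^ e : ℕ)) {degs es : List ℕ}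
    (hes : ∀ i ∈ degs, i ≠ 0 ∧ ∀ n < i + 1, n ∣ i → n ∈ es) {N g' : ℕ}
    (hcard : g' * Nat.card X = (p ^ e) ^ N * ((degs.map (fun i => Q ^ i - 1)).prod).natAbs)
    {H : List ℕ} (hReg : ∀ n ∈ H, RegE X p d Q n) {Sp : ℕ → ℕ → Prop}
    (hpair : ∀ n ∈ es, ∀ m ∈ es, n ≠ m → (n ∈ H ∧ ¬ m ∣ n) ∨ (m ∈ H ∧ ¬ n ∣ m) ∨
      (l < n.totient + m.totient ∧ Big l n ∧ Big l m) ∨ Sp n m ∨ Sp m n)
    (hSp : ∀ (π : Set ℕ) (r s : ℕ), r.Prime → s.Prime → r ∈ π → s ∈ π → r ≠ s → r ≠ 2 → s ≠ 2 → r ≠ p → s ≠ p →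
      ¬ r ∣ d → ¬ s ∣ d → r ∣ Nat.card X → s ∣ Nat.card X → Sp (orderOf (Q : ZMod r)) (orderOf (Q : ZMod s)) →
      ¬ Cond π X)
    (hd : ∀ (π : Set ℕ) (r s : ℕ), r.Prime → s.Prime → r ∈ π → s ∈ π → r ≠ s → r ≠ 2 → s ≠ 2 → r ≠ p → s ≠ p →
      r ∣ d → r ∣ Nat.card X → s ∣ Nat.card X → ¬ Cond π X)
    (hBad : ∀ (π : Set ℕ) (r s : ℕ), r.Prime → s.Prime → r ∈ π → s ∈ π → r ≠ s → r ≠ 2 → s ≠ 2 → r ≠ p → s ≠ p →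
      ¬ r ∣ d → ¬ s ∣ d → r ∣ Nat.card X → s ∣ Nat.card X → orderOf (Q : ZMod r) = orderOf (Q : ZMod s) →
      (∃ i ∈ degs, orderOf (Q : ZMod r) ∣ i ∧ r ∣ i) → ¬ Cond π X)
    {π : Set ℕ} (hπ : ∀ r ∈ π, r.Prime ∧ r ≠ 2 ∧ r ≠ p ∧ r ∣ Nat.card X) (hnt : π.Nontrivial) (hc : Cond π X) :
    ∀ r0 ∈ π, orderOf (Q : ZMod r0) ∈ es ∧ ∀ r ∈ π, r.Prime ∧ r ≠ 2 ∧ r ≠ p ∧ ¬ r ∣ d ∧
      orderOf (Q : ZMod r) = orderOf (Q : ZMod r0) ∧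
      (∀ i ∈ degs, orderOf (Q : ZMod r0) ∣ i → ¬ r ∣ i) ∧
        ∃ R, (degs.map (fun i => Q ^ i - 1)).prod = (Polynomial.cyclotomic (orderOf (Q : ZMod r0)) ℤ).eval Q ^
        (degs.filter (fun i => orderOf (Q : ZMod r0) ∣ i)).length * R ∧ ¬ (r : ℤ) ∣ R := by
  have hpp : p.Prime := Fact.out
  have hQr : ∀ r ∈ π, ¬ (r : ℤ) ∣ Q := fun r hr => not_dvd_Q hpp (hπ r hr).1 (hπ r hr).2.2.1 hε hQ
  -- no prime of `π` divides `d`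
  have hdπ : ∀ r ∈ π, ¬ r ∣ d := by
    intro r hr hrd
    obtain ⟨s, hs, hsr⟩ := hnt.exists_ne r
    exact hd π r s (hπ r hr).1 (hπ s hs).1 hr hs hsr.symm (hπ r hr).2.1 (hπ s hs).2.1 (hπ r hr).2.2.1
      (hπ s hs).2.2.1 hrd (hπ r hr).2.2.2 (hπ s hs).2.2.2 hc
  -- the orders are in `es`
  have hord : ∀ r ∈ π, orderOf (Q : ZMod r) ∈ es := by
    intro r hr
    obtain ⟨h1, h2, h3, h4⟩ := hπ r hr
    have hrZ := Nat.prime_iff_prime_int.1 h1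
    have h5 : r ∣ (p ^ e) ^ N * ((degs.map (fun i => Q ^ i - 1)).prod).natAbs := by
      rw [← hcard]; exact h4.mul_left _
    rcases h1.dvd_mul.1 h5 with h6 | h6
    · exact absurd ((Nat.prime_dvd_prime_iff_eq h1 hpp).1 (h1.dvd_of_dvd_pow (h1.dvd_of_dvd_pow h6))) h3
    · have h7 : (r : ℤ) ∣ (degs.map (fun i => Q ^ i - 1)).prod := Int.natCast_dvd.2 h6
      obtain ⟨x, hx, hrx⟩ := (Prime.dvd_prod_iff hrZ).1 h7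
      obtain ⟨i, hi, rfl⟩ := List.mem_map.1 hx
      have h8 := (dvd_pow_sub_one_iff i).1 hrx
      exact (hes i hi).2 _ (Nat.lt_succ_of_le (Nat.le_of_dvd (Nat.pos_of_ne_zero (hes i hi).1) h8)) h8
  have hbig : ∀ r ∈ π, Big l (orderOf (Q : ZMod r)) → l + 1 < r := by
    intro r hr hb
    by_contra hcon
    exact hb r (by omega) (hπ r hr).1 (ord_dvd (hπ r hr).1 (hQr r hr))
  -- different orders
  have hne : ∀ r ∈ π, ∀ s ∈ π, orderOf (Q : ZMod r) = orderOf (Q : ZMod s) := by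
    intro r hr s hs
    by_contra hne
    have hrs : r ≠ s := by rintro rfl; exact hne rfl
    obtain ⟨h1, h2, h3, h4⟩ := hπ r hr
    obtain ⟨g1, g2, g3, g4⟩ := hπ s hs
    rcases hpair _ (hord r hr) _ (hord s hs) hne with ⟨h5, h6⟩ | ⟨h5, h6⟩ | ⟨h5, h6, h7⟩ | h5 | h5
    · exact hReg _ h5 π r s h1 g1 hr hs hrs h2 h3 (hdπ r hr) g4 rfl h6 hc
    · exact hReg _ h5 π s r g1 h1 hs hr hrs.symm g2 g3 (hdπ s hs) h4 rfl h6 hc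
    · obtain ⟨x, hx⟩ := exists_mul_order h1 g1 hr hs hrs h4 g4 hc
      have := S.totient_le hp cs hka h1 g1 h3 g3 (hbig r hr h6) (hbig s hs h7) hx hε hQ hne
      omega
    · exact hSp π r s h1 g1 hr hs hrs h2 g2 h3 g3 (hdπ r hr) (hdπ s hs) h4 g4 h5 hc
    · exact hSp π s r g1 h1 hs hr hrs.symm g2 h2 g3 h3 (hdπ s hs) (hdπ r hr) g4 h4 h5 hc
  intro r0 hr0
  refine ⟨hord r0 hr0, fun r hr => ?_⟩
  obtain ⟨h1, h2, h3, h4⟩ := hπ r hr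
  have hb : ∀ i ∈ degs, orderOf (Q : ZMod r) ∣ i → ¬ r ∣ i := by
    intro i hi h5 h6
    obtain ⟨s, hs, hsr⟩ := hnt.exists_ne r
    obtain ⟨g1, g2, g3, g4⟩ := hπ s hs
    exact hBad π r s h1 g1 hr hs hsr.symm h2 g2 h3 g3 (hdπ r hr) (hdπ s hs) h4 g4 (hne r hr s hs) ⟨i, hi, h5, h6⟩ hc
  refine ⟨h1, h2, h3, hdπ r hr, hne r hr r0 hr0, ?_, ?_⟩
  · rw [hne r0 hr0 r hr]; exact hb
  · have h5 := exists_prod h1 (hQr r hr) degs hb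
    rwa [hne r hr r0 hr0] at h5

/-- **Transitivity in cross characteristic.** -/
theorem crossTri_of [IsAlgClosed k'] [Finite W] [Finite X] (hka : BpExc.TorAll.HAlg p k') {ε Q : ℤ}
    (hε : ε = 1 ∨ ε = -1) (hQ : Q = ε * (p ^ e : ℕ)) {degs es : List ℕ}
    (hes : ∀ i ∈ degs, i ≠ 0 ∧ ∀ n < i + 1, n ∣ i → n ∈ es) {N g' : ℕ}
    (hcard : g' * Nat.card X = (p ^ e) ^ N * ((degs.map (fun i => Q ^ i - 1)).prod).natAbs)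
    {H : List ℕ} (hReg : ∀ n ∈ H, RegE X p d Q n) {Sp : ℕ → ℕ → Prop}
    (hpair : ∀ n ∈ es, ∀ m ∈ es, n ≠ m → (n ∈ H ∧ ¬ m ∣ n) ∨ (m ∈ H ∧ ¬ n ∣ m) ∨
      (l < n.totient + m.totient ∧ Big l n ∧ Big l m) ∨ Sp n m ∨ Sp m n)
    (hSp : ∀ (π : Set ℕ) (r s : ℕ), r.Prime → s.Prime → r ∈ π → s ∈ π → r ≠ s → r ≠ 2 → s ≠ 2 → r ≠ p → s ≠ p →
      ¬ r ∣ d → ¬ s ∣ d → r ∣ Nat.card X → s ∣ Nat.card X → Sp (orderOf (Q : ZMod r)) (orderOf (Q : ZMod s)) →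
      ¬ Cond π X)
    (hd : ∀ (π : Set ℕ) (r s : ℕ), r.Prime → s.Prime → r ∈ π → s ∈ π → r ≠ s → r ≠ 2 → s ≠ 2 → r ≠ p → s ≠ p →
      r ∣ d → r ∣ Nat.card X → s ∣ Nat.card X → ¬ Cond π X)
    (hBad : ∀ (π : Set ℕ) (r s : ℕ), r.Prime → s.Prime → r ∈ π → s ∈ π → r ≠ s → r ≠ 2 → s ≠ 2 → r ≠ p → s ≠ p →
      ¬ r ∣ d → ¬ s ∣ d → r ∣ Nat.card X → s ∣ Nat.card X → orderOf (Q : ZMod r) = orderOf (Q : ZMod s) →
      (∃ i ∈ degs, orderOf (Q : ZMod r) ∣ i ∧ r ∣ i) → ¬ Cond π X)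
    (hPos : ∀ n ∈ es, ∀ (π : Set ℕ), (∀ r ∈ π, r.Prime ∧ r ≠ 2 ∧ r ≠ p ∧ ¬ r ∣ d ∧ orderOf (Q : ZMod r) = n ∧
      (∀ i ∈ degs, n ∣ i → ¬ r ∣ i) ∧ ∃ R, (degs.map (fun i => Q ^ i - 1)).prod = (Polynomial.cyclotomic n ℤ).eval Q ^
        (degs.filter (fun i => n ∣ i)).length * R ∧ ¬ (r : ℤ) ∣ R) → π.Nontrivial →
      ∃ T : Subgroup X, IsMulCommutative T ∧ ∀ r ∈ π, ¬ r ∣ T.index) : CrossTri p X := by
  apply CrossTri.of_torus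
  intro r q₁ q₂ hr h₁ h₂ hr2 h12 h22 hrp h1p h2p hr1 hr2' h12' hrX h1X h2X hc₁ hc₂
  have key : ∀ q : ℕ, q.Prime → q ≠ 2 → q ≠ p → q ∣ Nat.card X → r ≠ q → Cond {r, q} X →
      orderOf (Q : ZMod r) ∈ es ∧ (q.Prime ∧ q ≠ 2 ∧ q ≠ p ∧ ¬ q ∣ d ∧
      orderOf (Q : ZMod q) = orderOf (Q : ZMod r) ∧
      (∀ i ∈ degs, orderOf (Q : ZMod r) ∣ i → ¬ q ∣ i) ∧
        ∃ R, (degs.map (fun i => Q ^ i - 1)).prod = (Polynomial.cyclotomic (orderOf (Q : ZMod r)) ℤ).eval Q ^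
        (degs.filter (fun i => orderOf (Q : ZMod r) ∣ i)).length * R ∧ ¬ (q : ℤ) ∣ R) := by
    intro q hq hq2 hqp hqX hrq hc
    have hπ : ∀ s ∈ ({r, q} : Set ℕ), s.Prime ∧ s ≠ 2 ∧ s ≠ p ∧ s ∣ Nat.card X := by
      rintro s (rfl | rfl)
      · exact ⟨hr, hr2, hrp, hrX⟩
      · exact ⟨hq, hq2, hqp, hqX⟩
    have h1 := facts_of hp cs S hka hε hQ hes hcard hReg hpair hSp hd hBad hπ
      ⟨r, by simp, q, by simp, hrq⟩ hc r (by simp)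
    exact ⟨h1.1, h1.2 q (by simp)⟩
  obtain ⟨k0, k1⟩ := key q₁ h₁ h12 h1p h1X hr1 hc₁
  obtain ⟨-, k2⟩ := key q₂ h₂ h22 h2p h2X hr2' hc₂
  obtain ⟨T, hT, hi⟩ := hPos _ k0 {q₁, q₂} (by
    rintro s (rfl | rfl)
    · exact k1
    · exact k2) ⟨q₁, by simp, q₂, by simp, h12'⟩
  exact ⟨T, hT, hi q₁ (by simp), hi q₂ (by simp)⟩

end Main

end Cfsg.Agent.H347.Tri
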