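import Cfsg.Agent.H347.Tri.Gen
import Cfsg.Agent.H630.ExcRowsA
import Cfsg.Agent.H630.ExcRowsE

/-!
# Transitivity of `Cond {p, q}` in cross characteristic: `E₈`, `F₄`, `G₂`, `E₇` (helper347, for S4335)
-/

set_option autoImplicit false
set_option linter.unusedSectionVars false
set_option linter.unusedVariables false

namespace Cfsg.Agent.H347.Tri

open CoxeterSystem Cfsg Cfsg.Lie Cfsg.Lie.ChevalleyDatum
open Cfsg.Agent.ChevalleyStructure Cfsg.Agent.ChevalleyStructure.Elts Cfsg.Agent.ChevalleyStructure.CoxeterGeom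
  Cfsg.Agent.ChevalleyStructure.CoxeterGeomTypes Cfsg.Agent.ChevalleyStructure.NPerm
open Cfsg.Agent.Tits.Roots Cfsg.Agent.Tits.Core Cfsg.Agent.Nodes Cfsg.Agent.Nodes.Reps Cfsg.Agent.Nodes.BNOf
  Cfsg.Agent.Nodes.RGDChev Cfsg.Agent.Nodes.Bruhat Cfsg.Agent.Nodes.SubComb Cfsg.Agent.Nodes.Coroot
open Cfsg.Agent.KFacts.RgdField Cfsg.Agent.KFacts.RgdChevCoord Cfsg.Agent.BpExc.TorCent Cfsg.Agent.BpExc.TorChev
open Cfsg.Agent.GpExc.Field Cfsg.Agent.BpExc.Tow Cfsg.Agent.BpExc.TowChev Cfsg.Agent.BpExc.Fr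
  Cfsg.Agent.BpExc.LangFr Cfsg.Agent.LangThm Cfsg.Agent.BpExc Cfsg.Agent.H129.TorusChar Cfsg.Agent.H129.TorusMain
open Cfsg.Agent.H630.NH Cfsg.Agent.H130.WeylCk Cfsg.Agent.H130.PolyL Cfsg.Agent.H130.WeylTab
open Cfsg.Agent.H630.Exc Cfsg.Agent.H165.TriRow

universe u v

/-- **Type `E₈`.** -/
theorem crossTri_E8 (r : ℕ) [Fact r.Prime] (F : Type u) [Field F] [Fintype F] [CharP F r] :
    CrossTri r ↥(chevE8.group F) := by
  obtain ⟨k, _, _, f, p, hpp, hkp, e, hk, hka, he0, hcF⟩ := H378.TorFin.exists_closure F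
  have hkr : CharP k r := charP_of_injective_ringHom f.injective r
  obtain rfl : r = p := CharP.eq k hkr hkp
  have cs := CoxeterMatrix.E₈.toCoxeterSystem
  have hW := finite_W e8T cs
  have hcF' : Fintype.card F = r ^ e := by rw [← Nat.card_eq_fintype_card, hcF]
  have hd1 : Nat.gcd 1 (Nat.card F - 1) = 1 := Nat.gcd_one_left _
  have S := setup_untw e8T cs hk f he0 hcF' invC_E8 one_ne_zero
  rw [hd1] at S
  have h1 : (1 : ℤ) = 1 ∨ (1 : ℤ) = -1 := Or.inl rfl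
  have hQ : ((r ^ e : ℕ) : ℤ) = 1 * (r ^ e : ℕ) := (one_mul _).symm
  have hcard : 1 * Nat.card ↥(chevE8.group F) = (r ^ e) ^ 120 *
      (([2, 8, 12, 14, 18, 20, 24, 30].map (fun i => ((r ^ e : ℕ) : ℤ) ^ i - 1)).prod).natAbs := by
    rw [natAbs_prod _ (pow_pos hpp.out.pos _), one_mul, S1065.result hcF']
    simp only [List.map_cons, List.map_nil, List.prod_cons, List.prod_nil, mul_one]
    ring
  refine crossTri_of e8T cs S hka h1 hQ (degs := [2, 8, 12, 14, 18, 20, 24, 30])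
    (es := [1, 2, 3, 4, 5, 6, 7, 8, 9, 10, 12, 14, 15, 18, 20, 24, 30]) (by decide +kernel) hcard
    (H := [1, 2, 3, 6, 4, 5, 10, 8]) (reg_E8 cs S hQ) (Sp := fun _ _ => False) (by decide +kernel) ?_ ?_
    (bad_E8 cs S hQ) ?_
  · rintro π r s - - - - - - - - - - - - - h
    exact h.elim
  · intro π r s hr _ _ _ _ _ _ _ _ hd
    exact absurd (Nat.dvd_one.1 hd) hr.one_lt.ne'
  · intro n hn π hπ _
    exact S.pos_of_hasF e8T cs h1 lists_E8 (hasTor_E8 cs 1 h1) hQ (idx_E8 n hn).1 (idx_E8 n hn).2 (hasF_E8 n hn)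
      hcard hπ

/-- **Type `F₄`.** -/
theorem crossTri_F4 (r : ℕ) [Fact r.Prime] (F : Type u) [Field F] [Fintype F] [CharP F r] :
    CrossTri r ↥(chevF4.group F) := by
  obtain ⟨k, _, _, f, p, hpp, hkp, e, hk, hka, he0, hcF⟩ := H378.TorFin.exists_closure F
  have hkr : CharP k r := charP_of_injective_ringHom f.injective r
  obtain rfl : r = p := CharP.eq k hkr hkp
  have cs := CoxeterMatrix.F₄.toCoxeterSystem
  have hW := finite_W f4T cs
  have hcF' : Fintype.card F = r ^ e := by rw [← Nat.card_eq_fintype_card, hcF]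
  have hd1 : Nat.gcd 1 (Nat.card F - 1) = 1 := Nat.gcd_one_left _
  have S := setup_untw f4T cs hk f he0 hcF' invC_F4 one_ne_zero
  rw [hd1] at S
  have h1 : (1 : ℤ) = 1 ∨ (1 : ℤ) = -1 := Or.inl rfl
  have hQ : ((r ^ e : ℕ) : ℤ) = 1 * (r ^ e : ℕ) := (one_mul _).symm
  have hcard : 1 * Nat.card ↥(chevF4.group F) = (r ^ e) ^ 24 *
      (([2, 6, 8, 12].map (fun i => ((r ^ e : ℕ) : ℤ) ^ i - 1)).prod).natAbs := by
    rw [natAbs_prod _ (pow_pos hpp.out.pos _), one_mul, S1062.result hcF']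
    simp only [List.map_cons, List.map_nil, List.prod_cons, List.prod_nil, mul_one]
    ring
  refine crossTri_of f4T cs S hka h1 hQ (degs := [2, 6, 8, 12])
    (es := [1, 2, 3, 4, 6, 8, 12]) (by decide +kernel) hcard
    (H := [1, 2, 3, 6, 4]) (reg_F4 cs S hQ) (Sp := fun _ _ => False) (by decide +kernel) ?_ ?_
    (bad_F4 cs S hQ) ?_
  · rintro π r s - - - - - - - - - - - - - h
    exact h.elim
  · intro π r s hr _ _ _ _ _ _ _ _ hd
    exact absurd (Nat.dvd_one.1 hd) hr.one_lt.ne'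
  · intro n hn π hπ _
    exact S.pos_of_hasF f4T cs h1 lists_F4 (hasTor_F4 cs 1 h1) hQ (idx_F4 n hn).1 (idx_F4 n hn).2 (hasF_F4 n hn)
      hcard hπ

/-- **Type `G₂`.** -/
theorem crossTri_G2 (r : ℕ) [Fact r.Prime] (F : Type u) [Field F] [Fintype F] [CharP F r] :
    CrossTri r ↥(chevG2.group F) := by
  obtain ⟨k, _, _, f, p, hpp, hkp, e, hk, hka, he0, hcF⟩ := H378.TorFin.exists_closure F
  have hkr : CharP k r := charP_of_injective_ringHom f.injective r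
  obtain rfl : r = p := CharP.eq k hkr hkp
  have cs := CoxeterMatrix.G₂.toCoxeterSystem
  have hW := finite_W g2T cs
  have hcF' : Fintype.card F = r ^ e := by rw [← Nat.card_eq_fintype_card, hcF]
  have hd1 : Nat.gcd 1 (Nat.card F - 1) = 1 := Nat.gcd_one_left _
  have S := setup_untw g2T cs hk f he0 hcF' invC_G2 one_ne_zero
  rw [hd1] at S
  have h1 : (1 : ℤ) = 1 ∨ (1 : ℤ) = -1 := Or.inl rfl
  have hQ : ((r ^ e : ℕ) : ℤ) = 1 * (r ^ e : ℕ) := (one_mul _).symm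
  have hcard : 1 * Nat.card ↥(chevG2.group F) = (r ^ e) ^ 6 *
      (([2, 6].map (fun i => ((r ^ e : ℕ) : ℤ) ^ i - 1)).prod).natAbs := by
    rw [natAbs_prod _ (pow_pos hpp.out.pos _), one_mul, S1059.result hcF']
    simp only [List.map_cons, List.map_nil, List.prod_cons, List.prod_nil, mul_one]
    ring
  refine crossTri_of g2T cs S hka h1 hQ (degs := [2, 6])
    (es := [1, 2, 3, 6]) (by decide +kernel) hcard
    (H := [1, 2]) (reg_G2 cs S hQ) (Sp := fun _ _ => False) (by decide +kernel) ?_ ?_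
    (bad_G2 cs S hQ) ?_
  · rintro π r s - - - - - - - - - - - - - h
    exact h.elim
  · intro π r s hr _ _ _ _ _ _ _ _ hd
    exact absurd (Nat.dvd_one.1 hd) hr.one_lt.ne'
  · intro n hn π hπ _
    exact S.pos_of_hasF g2T cs h1 lists_G2 (hasTor_G2 cs 1 h1) hQ (idx_G2 n hn).1 (idx_G2 n hn).2 (hasF_G2 n hn)
      hcard hπ

/-- **Type `E₇`.** -/
theorem crossTri_E7_of (r : ℕ) [Fact r.Prime] (F : Type u) [Field F] [Fintype F] [CharP F r]
    (hSp : ∀ (k : Type u) [Field k] [IsAlgClosed k] [CharP k r] (e : ℕ) (cs : CoxeterSystem CoxeterMatrix.E₇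
      CoxeterMatrix.E₇.Group) (σ : MulAut ↥(chevE7.group k)) (e0 : ↥(chevE7.group F) →* ↥(chevE7.group k)) (d : ℕ),
      BpExc.TorAll.HAlg r k → Setup e7T cs r e σ (AddEquiv.refl (Fin 7 → ℤ)) e0 d → ∀ (π : Set ℕ) (s t : ℕ),
      s.Prime → t.Prime → s ∈ π → t ∈ π → s ≠ t → s ≠ r → t ≠ r → ¬ s ∣ d → ¬ t ∣ d → 8 < t →
      s ∣ Nat.card ↥(chevE7.group F) → t ∣ Nat.card ↥(chevE7.group F) → orderOf ((r ^ e : ℕ) : ZMod s) = 4 →
      orderOf ((r ^ e : ℕ) : ZMod t) ≠ 4 → 4 ≤ (orderOf ((r ^ e : ℕ) : ZMod t)).totient →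
      ¬ Cond π ↥(chevE7.group F)) :
    CrossTri r ↥(chevE7.group F) := by
  obtain ⟨k, _, _, f, p, hpp, hkp, e, hk, hka, he0, hcF⟩ := H378.TorFin.exists_closure F
  have hkr : CharP k r := charP_of_injective_ringHom f.injective r
  obtain rfl : r = p := CharP.eq k hkr hkp
  have cs := CoxeterMatrix.E₇.toCoxeterSystem
  have hW := finite_W e7T cs
  have hcF' : Fintype.card F = r ^ e := by rw [← Nat.card_eq_fintype_card, hcF]
  obtain ⟨d, hd⟩ : ∃ d, d = Nat.gcd 2 (Nat.card F - 1) := ⟨_, rfl⟩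
  have S := setup_untw e7T cs hk f he0 hcF' invC_E7 two_ne_zero
  rw [← hd] at S
  have hd2 : d ∣ 2 := by rw [hd]; exact Nat.gcd_dvd_left _ _
  have h1 : (1 : ℤ) = 1 ∨ (1 : ℤ) = -1 := Or.inl rfl
  have hQ : ((r ^ e : ℕ) : ℤ) = 1 * (r ^ e : ℕ) := (one_mul _).symm
  have hcard : Nat.gcd 2 (r ^ e - 1) * Nat.card ↥(chevE7.group F) = (r ^ e) ^ 63 *
      (([2, 6, 8, 10, 12, 14, 18].map (fun i => ((r ^ e : ℕ) : ℤ) ^ i - 1)).prod).natAbs := by
    rw [natAbs_prod _ (pow_pos hpp.out.pos _), S1064.result hcF']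
    simp only [List.map_cons, List.map_nil, List.prod_cons, List.prod_nil, mul_one]
    ring
  refine crossTri_of e7T cs S hka h1 hQ (degs := [2, 6, 8, 10, 12, 14, 18])
    (es := [1, 2, 3, 4, 5, 6, 7, 8, 9, 10, 12, 14, 18]) (by decide +kernel) hcard
    (H := [1, 2, 3, 6]) (reg_E7 cs S hQ) (Sp := SpE7) (by decide +kernel) ?_ ?_
    (bad_E7 cs S hQ) ?_
  · intro π s t hs ht hsπ htπ hst hs2 ht2 hsr htr hsd htd hsX htX hsp
    obtain ⟨h4, hm⟩ := hsp
    have hb : ∀ m ∈ [5, 7, 8, 9, 10, 12, 14, 18], Big 7 m ∧ m ≠ 4 ∧ 4 ≤ m.totient := by decide +kernel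
    obtain ⟨hb1, hb2, hb3⟩ := hb _ hm
    have hc : ∀ s : ℕ, ((((r ^ e : ℕ) : ℤ)) : ZMod s) = ((r ^ e : ℕ) : ZMod s) := fun s => by push_cast; rfl
    have h8 : 8 < t := by
      by_contra hcon
      exact hb1 t (by omega) ht (ord_dvd ht (not_dvd_Q hpp.out ht htr h1 hQ))
    rw [hc] at h4 hb2 hb3
    exact hSp k e cs _ _ d hka S π s t hs ht hsπ htπ hst hsr htr hsd htd h8 hsX htX h4 hb2 hb3
  · intro π s t hs ht _ _ _ hs2 _ _ _ hsd
    exact absurd ((Nat.prime_dvd_prime_iff_eq hs Nat.prime_two).1 (hsd.trans hd2)) hs2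
  · intro n hn π hπ _
    exact S.pos_of_hasF e7T cs h1 lists_E7 (hasTor_E7 cs 1 h1) hQ (idx_E7 n hn).1 (idx_E7 n hn).2 (hasF_E7 n hn)
      hcard hπ

/-- **Type `E₇`.** -/
theorem crossTri_E7 (r : ℕ) [Fact r.Prime] (F : Type u) [Field F] [Fintype F] [CharP F r] :
    CrossTri r ↥(chevE7.group F) := by
  refine crossTri_E7_of r F ?_
  intro k _ _ _ e cs σ e0 d hka S π s t hs ht hsπ htπ hst hsr htr hsd htd h8 hsX htX h4 hne hm
  have hW : Finite CoxeterMatrix.E₇.Group := Nodes.RGDChev.finite_W e7T cs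
  exact H234.NotCond.not_cond_E7_four cs hka S hs ht hsπ htπ hst hsr htr hsd htX h8 h4 hne hm

end Cfsg.Agent.H347.Tri
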