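import Cfsg.Agent.H347.Tri.Gen
import Cfsg.Agent.H630.ExcRowsC

/-!
# Transitivity of `Cond {p, q}` in cross characteristic: `E₆`, `²E₆` (helper347, for S4335)
-/

set_option autoImplicit false
set_option linter.unusedSectionVars false
set_option linter.unusedVariables false

namespace Cfsg.Agent.H347.Tri

open CoxeterSystem Cfsg Cfsg.Lie Cfsg.Lie.ChevalleyDatum
open Cfsg.Agent.ChevalleyStructure Cfsg.Agent.ChevalleyStructure.Elts Cfsg.Agent.ChevalleyStructure.CoxeterGeom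
  Cfsg.Agent.ChevalleyStructure.CoxeterGeomTypes Cfsg.Agent.ChevalleyStructure.NPerm
open Cfsg.Agent.Tits.Roots Cfsg.Agent.Tits.Core Cfsg.Agent.Nodes Cfsg.Agent.Nodes.Reps Cfsg.Agent.Nodes.BNOf
  Cfsg.Agent.Nodes.RGDChev Cfsg.Agent.Nodes.Bruhat Cfsg.Agent.Nodes.SubComb Cfsg.Agent.Nodes.Coroot
open Cfsg.Agent.KFacts.RgdField Cfsg.Agent.KFacts.RgdChevCoord Cfsg.Agent.BpExc.TorCent Cfsg.Agent.BpExc.TorChev
open Cfsg.Agent.GpExc.Field Cfsg.Agent.BpExc.Tow Cfsg.Agent.BpExc.TowChev Cfsg.Agent.BpExc.Fr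
  Cfsg.Agent.BpExc.LangFr Cfsg.Agent.LangThm Cfsg.Agent.BpExc Cfsg.Agent.H129.TorusChar Cfsg.Agent.H129.TorusMain
open Cfsg.Agent.H129.TwE6Fr (tau isFrob_tau fr_tau embT embT_injective tau_embT tau_split tau_normal tau_pow flip6
  flip6_apply flip_sr')
open Cfsg.Agent.H630.NH Cfsg.Agent.H130.WeylCk Cfsg.Agent.H130.PolyL Cfsg.Agent.H130.WeylTab
open Cfsg.Agent.H630.Exc Cfsg.Agent.H165.TriRow

universe u v

section Gen

variable {W : Type*} [Group W] (cs : CoxeterSystem CoxeterMatrix.E₆ W)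

variable {k' : Type u} [Field k'] {p e : ℕ} [hpF : Fact p.Prime] [CharP k' p] {σ : MulAut ↥(chevE6.group k')}
  {g : (Fin 6 → ℤ) ≃+ (Fin 6 → ℤ)} {X : Type v} [Group X] {e0 : X →* ↥(chevE6.group k')} {d : ℕ}
  (S : Setup e6T cs p e σ g e0 d)

include S

/-- **Types `E₆`, `²E₆`.** -/
theorem crossTri_E6_gen [IsAlgClosed k'] [Finite W] [Finite X] (hka : BpExc.TorAll.HAlg p k') (hcm : CommIn σ e0)
    {ε Q : ℤ} (hε : ε = 1 ∨ ε = -1) (hQ : Q = ε * (p ^ e : ℕ)) (hT : ∀ w1, HasTor e6T cs g ε w1)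
    (h3d : (3 : ℤ) ∣ Q - 1 ↔ 3 ∣ d) (hd3 : d ∣ 3) {g' : ℕ}
    (hcard : g' * Nat.card X = (p ^ e) ^ 36 * (([2, 5, 6, 8, 9, 12].map (fun i => Q ^ i - 1)).prod).natAbs) :
    CrossTri p X := by
  refine crossTri_of e6T cs S hka hε hQ (degs := [2, 5, 6, 8, 9, 12])
    (es := [1, 2, 3, 4, 5, 6, 8, 9, 12]) (by decide +kernel) hcard
    (H := [1, 2, 3, 4, 6]) (reg_E6 cs S hε hQ hT) (Sp := fun _ _ => False) (by decide +kernel) ?_ ?_
    (bad_E6 cs S hε hQ hT h3d.1) ?_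
  · rintro π r s - - - - - - - - - - - - - h
    exact h.elim
  · intro π r s hr hs hrπ hsπ hrs _ _ hrp _ hd hrX hsX
    have h1 : r ∣ 3 := hd.trans hd3
    obtain rfl := (Nat.prime_dvd_prime_iff_eq hr Nat.prime_three).1 h1
    exact not_cond_E6_d cs S hcm hε hQ hT hr hs hrπ hsπ hrs hrp hsX (h3d.2 hd)
  · intro n hn π hπ _
    exact S.pos_of_hasF e6T cs hε lists_E6 hT hQ (idx_E6 n hn).1 (idx_E6 n hn).2 (hasF_E6 n hn)
      hcard hπ

end Gen

/-- **Type `E₆`.** -/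
theorem crossTri_E6 (r : ℕ) [Fact r.Prime] (F : Type u) [Field F] [Fintype F] [CharP F r] :
    CrossTri r ↥(chevE6.group F) := by
  obtain ⟨k, _, _, f, p, hpp, hkp, e, hk, hka, he0, hcF⟩ := H378.TorFin.exists_closure F
  have hkr : CharP k r := charP_of_injective_ringHom f.injective r
  obtain rfl : r = p := CharP.eq k hkr hkp
  have cs := CoxeterMatrix.E₆.toCoxeterSystem
  have hW := finite_W e6T cs
  have hcF' : Fintype.card F = r ^ e := by rw [← Nat.card_eq_fintype_card, hcF]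
  have S := setup_untw e6T cs hk f he0 hcF' invC_E6 three_ne_zero
  have h1 : (1 : ℤ) = 1 ∨ (1 : ℤ) = -1 := Or.inl rfl
  have hQ : ((r ^ e : ℕ) : ℤ) = 1 * (r ^ e : ℕ) := (one_mul _).symm
  have hpos : 0 < r ^ e := pow_pos hpp.out.pos _
  have hcard : Nat.gcd 3 (r ^ e - 1) * Nat.card ↥(chevE6.group F) = (r ^ e) ^ 36 *
      (([2, 5, 6, 8, 9, 12].map (fun i => ((r ^ e : ℕ) : ℤ) ^ i - 1)).prod).natAbs := by
    rw [natAbs_prod _ hpos, S1063.result hcF']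
    simp only [List.map_cons, List.map_nil, List.prod_cons, List.prod_nil, mul_one]
    ring
  refine crossTri_E6_gen cs S hka ?_ h1 hQ (hasTor_one e6T cs) ?_ (Nat.gcd_dvd_left _ _) hcard
  · refine commIn_of (TT chevE6 k) (TT_comm e6T) S.fix (fun y hy => ?_) (fun y hy a ha => ?_)
    · obtain ⟨x, t, ht, e1⟩ := H129.TorusUntw.fix_split e6T f hcF' hy
      exact ⟨x, t, ht, e1⟩
    · exact H378.TorFin.conj_range e6T f r hcF (by rw [phi_eq_phi, hy]) ha
  · rw [hcF]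
    have e1 : ((r ^ e : ℕ) : ℤ) - 1 = ((r ^ e - 1 : ℕ) : ℤ) := by
      rw [Nat.cast_sub hpos]; rfl
    rw [e1]
    constructor
    · intro h
      exact Nat.dvd_gcd dvd_rfl (by exact_mod_cast h)
    · intro h
      exact_mod_cast h.trans (Nat.gcd_dvd_right _ _)

/-- **Type `²E₆`.** -/
theorem crossTri_twE6 (r : ℕ) [Fact r.Prime] (F : Type u) [Field F] [Fintype F] [CharP F r] {q : ℕ}
    (hq : IsPrimePow q) (hF : Fintype.card F = q ^ 2) : CrossTri r ↥(twistedE6 F q) := by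
  obtain ⟨k, _, _, f, p, hpp, hkp, e', hk, hka, he0', hcF⟩ := H378.TorFin.exists_closure F
  have hkr : CharP k r := charP_of_injective_ringHom f.injective r
  obtain rfl : r = p := CharP.eq k hkr hkp
  obtain ⟨e, he0, hqe⟩ : ∃ e, 0 < e ∧ q = r ^ e := by
    obtain ⟨r', e, hr', he, rfl⟩ := hq
    have h1 : r' ∣ r ^ e' := by
      rw [← hcF, Nat.card_eq_fintype_card, hF]
      exact (dvd_pow_self r' he.ne').trans (dvd_pow_self _ two_ne_zero)
    have h2 : r' = r := (Nat.prime_dvd_prime_iff_eq hr'.nat_prime hpp.out).1 (hr'.nat_prime.dvd_of_dvd_pow h1)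
    exact ⟨e, he, by rw [h2]⟩
  have cs := CoxeterMatrix.E₆.toCoxeterSystem
  have hW := finite_W e6T cs
  have S := setup_twE6 cs hk f he0 hqe hq hF
  have h1 : (-1 : ℤ) = 1 ∨ (-1 : ℤ) = -1 := Or.inr rfl
  have hQ : (-(q : ℤ)) = -1 * (r ^ e : ℕ) := by rw [hqe]; ring
  have hpos : 0 < q := hq.pos
  have hcard : Nat.gcd 3 (q + 1) * Nat.card ↥(twistedE6 F q) = (r ^ e) ^ 36 *
      (([2, 5, 6, 8, 9, 12].map (fun i => (-(q : ℤ)) ^ i - 1)).prod).natAbs := by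
    rw [S1066.result hq hF, ← hqe]
    have ev : ∀ i : ℕ, Even i → ((-(q : ℤ)) ^ i - 1).natAbs = q ^ i - 1 := by
      intro i hi
      rw [hi.neg_pow]
      have h1 : 1 ≤ q ^ i := Nat.one_le_pow _ _ hpos
      have h2 : ((q : ℕ) : ℤ) ^ i - 1 = ((q ^ i - 1 : ℕ) : ℤ) := by push_cast [Nat.cast_sub h1]; ring
      rw [h2, Int.natAbs_natCast]
    have od : ∀ i : ℕ, Odd i → ((-(q : ℤ)) ^ i - 1).natAbs = q ^ i + 1 := by
      intro i hi
      rw [hi.neg_pow]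
      have h2 : -((q : ℕ) : ℤ) ^ i - 1 = -((q ^ i + 1 : ℕ) : ℤ) := by push_cast; ring
      rw [h2, Int.natAbs_neg, Int.natAbs_natCast]
    simp only [List.map_cons, List.map_nil, List.prod_cons, List.prod_nil, mul_one, Int.natAbs_mul]
    rw [ev 2 (by decide), od 5 (by decide), ev 6 (by decide), ev 8 (by decide), od 9 (by decide), ev 12 (by decide)]
    ring
  refine crossTri_E6_gen cs S hka ?_ h1 hQ (hasTor_tw cs) ?_ (Nat.gcd_dvd_left _ _) hcard
  · refine commIn_of (TT chevE6 k) (TT_comm e6T) S.fix (fun y hy => ?_) (fun y hy a ha => ?_)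
    · obtain ⟨x, t, ht, -, e1⟩ := tau_split f hqe hq hF hy
      exact ⟨x, t, ht, e1⟩
    · exact tau_normal f hqe hq hF hy ha
  · have e1 : (-(q : ℤ)) - 1 = -((q + 1 : ℕ) : ℤ) := by push_cast; ring
    rw [e1, dvd_neg]
    constructor
    · intro h
      exact Nat.dvd_gcd dvd_rfl (by exact_mod_cast h)
    · intro h
      exact_mod_cast h.trans (Nat.gcd_dvd_right _ _)

end Cfsg.Agent.H347.Tri
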